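import Mathlib
import Groth.Prelude.Def_W4c1hurwitzcptBd

/-!
# Closedness under multiplication of crimps
-/

set_option autoImplicit false

noncomputable section

universe u

open PowerSeries

namespace Groth.Agent.CrimpLib

variable {k : Type u} [Field k]

/-- `x^(2m) g²` is not `a(x^p) + b(x^p) x^m g` modulo `x^n` for `n > 2m`, `p ∤ m` and `p ∤ 2m` or `a = 0` -/
theorem not_eq (p : ℕ) (hp : p ≠ 0) (m n : ℕ) (hm : ¬ p ∣ m) (hn : 2 * m < n) (a b g s : PowerSeries k)
    (hg : g.order = 0) (ha : a = 0 ∨ ¬ p ∣ 2 * m) :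
    X ^ (2 * m) * (g * g) ≠ expand p hp a + expand p hp b * (X ^ m * g) + X ^ n * s := by
  intro h
  have hL : (X ^ (2 * m) * (g * g)).order = ((2 * m : ℕ) : ℕ∞) := by
    rw [order_mul, order_mul, order_X_pow, hg, add_zero, add_zero]
  have hR : ((2 * m : ℕ) : ℕ∞) < (-(X ^ n * s)).order := by
    rw [order_neg, order_mul, order_X_pow]
    exact lt_of_lt_of_le (Nat.cast_lt.mpr hn) le_self_add
  have hT : (expand p hp a + expand p hp b * (X ^ m * g)).order = ((2 * m : ℕ) : ℕ∞) := by
    rw [show expand p hp a + expand p hp b * (X ^ m * g) = X ^ (2 * m) * (g * g) + -(X ^ n * s) by rw [h]; ring,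
      order_add_of_order_ne _ _ (by rw [hL]; exact hR.ne), hL]
    exact inf_eq_left.mpr hR.le
  set A := expand p hp a with hA
  set B := expand p hp b * (X ^ m * g) with hB
  have hAo : A.order = p • a.order := order_expand p hp a
  have hBo : B.order = p • b.order + m := by
    rw [hB, order_mul, order_expand, order_mul, order_X_pow, hg, add_zero]
  have hA2 : A.order ≠ ((2 * m : ℕ) : ℕ∞) := by
    rw [hAo]
    cases ho : a.order using ENat.recTopCoe with
    | top =>
      intro h'
      rw [nsmul_eq_mul, ENat.mul_top (by exact_mod_cast hp)] at h'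
      exact ENat.top_ne_coe _ h'
    | coe i =>
      intro h'
      rw [nsmul_eq_mul, ← Nat.cast_mul, Nat.cast_inj] at h'
      rcases ha with ha | ha
      · rw [ha, order_zero] at ho
        exact ENat.top_ne_coe i ho
      · exact ha ⟨i, h'.symm⟩
  have hB2 : B.order ≠ ((2 * m : ℕ) : ℕ∞) := by
    rw [hBo]
    cases ho : b.order using ENat.recTopCoe with
    | top =>
      intro h'
      rw [nsmul_eq_mul, ENat.mul_top (by exact_mod_cast hp), top_add] at h'
      exact ENat.top_ne_coe _ h'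
    | coe i =>
      intro h'
      rw [nsmul_eq_mul, ← Nat.cast_mul, ← Nat.cast_add, Nat.cast_inj] at h'
      exact hm ⟨i, by omega⟩
  by_cases hAB : A.order = B.order
  · rw [hAo, hBo] at hAB
    cases hi : a.order using ENat.recTopCoe with
    | top =>
      have hA0 : A = 0 := by rw [hA, order_eq_top.mp hi, map_zero]
      rw [hA0, zero_add] at hT
      exact hB2 hT
    | coe i =>
      cases hj : b.order using ENat.recTopCoe with
      | top =>
        have hB0 : B = 0 := by rw [hB, order_eq_top.mp hj, map_zero, zero_mul]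
        rw [hB0, add_zero] at hT
        exact hA2 hT
      | coe j =>
        rw [hi, hj, nsmul_eq_mul, nsmul_eq_mul, ← Nat.cast_mul, ← Nat.cast_mul, ← Nat.cast_add, Nat.cast_inj] at hAB
        exact hm ⟨i - j, by rw [Nat.mul_sub]; omega⟩
  · rw [order_add_of_order_ne _ _ hAB] at hT
    rcases min_choice A.order B.order with h' | h'
    · exact hA2 (h'.symm.trans hT)
    · exact hB2 (h'.symm.trans hT)

theorem mul_mem_of_generators {R S : Type u} [CommRing R] [CommRing S] [Algebra R S] (y : S) (I : Ideal S)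
    (hy : y * y ∈ I) {a b : S}
    (ha : a ∈ Submodule.span R {1, y} ⊔ I.restrictScalars R) (hb : b ∈ Submodule.span R {1, y} ⊔ I.restrictScalars R) :
    a * b ∈ Submodule.span R {1, y} ⊔ I.restrictScalars R := by
  obtain ⟨u, hu, e, he, rfl⟩ := Submodule.mem_sup.mp ha
  obtain ⟨v, hv, e', he', rfl⟩ := Submodule.mem_sup.mp hb
  obtain ⟨a₁, a₂, rfl⟩ := Submodule.mem_span_pair.mp hu
  obtain ⟨b₁, b₂, rfl⟩ := Submodule.mem_span_pair.mp hv
  refine Submodule.mem_sup.mpr ⟨(a₁ * b₁) • 1 + (a₁ * b₂ + a₂ * b₁) • y, Submodule.mem_span_pair.mpr ⟨_, _, rfl⟩,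
    (a₂ * b₂) • (y * y) + ((a₁ • (1 : S) + a₂ • y) * e' + (b₁ • (1 : S) + b₂ • y + e') * e), ?_, ?_⟩
  · exact add_mem (Submodule.smul_of_tower_mem I _ hy) (add_mem (I.mul_mem_left _ he') (I.mul_mem_left _ he))
  · simp only [Algebra.smul_def, map_mul, map_add]; ring

open W4c1hurwitzcpt in
theorem algebraMap_val (p : ℕ) [NeZero p] (r : PowerSeries k) :
    RootDisk.val (algebraMap (PowerSeries k) (RootDisk p k) r) = expand p (NeZero.ne p) r := rfl

open W4c1hurwitzcpt in
theorem closed_iff (m n : ℕ) (hm : ¬ 3 ∣ m) (x g : RootDisk 3 k) (hx : RootDisk.val x = PowerSeries.X)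
    (hg : PowerSeries.order (RootDisk.val g) = 0) (M : Submodule (PowerSeries k) (RootDisk 3 k))
    (hM : M = Submodule.span (PowerSeries k) {1, x ^ m * g} ⊔
      (Ideal.span {x ^ n} : Ideal (RootDisk 3 k)).restrictScalars (PowerSeries k)) :
    (∀ a ∈ M, ∀ b ∈ M, a * b ∈ M) ↔ n ≤ 2 * m := by
  subst hM
  refine ⟨fun h => ?_, fun h a ha b hb => mul_mem_of_generators _ _ ?_ ha hb⟩
  · by_contra hn
    have hy := Submodule.mem_sup_left (T := (Ideal.span {x ^ n} : Ideal (RootDisk 3 k)).restrictScalars (PowerSeries k))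
      (Submodule.subset_span (s := ({1, x ^ m * g} : Set (RootDisk 3 k))) (R := PowerSeries k) (by simp : x ^ m * g ∈ _))
    obtain ⟨u, hu, e, he, hue⟩ := Submodule.mem_sup.mp (h _ hy _ hy)
    obtain ⟨a, b, rfl⟩ := Submodule.mem_span_pair.mp hu
    obtain ⟨s, rfl⟩ := Ideal.mem_span_singleton'.mp (he : e ∈ Ideal.span {x ^ n})
    have h1 := congrArg RootDisk.val hue
    simp only [map_add, map_mul, map_pow, hx, Algebra.smul_def, algebraMap_val, map_one, mul_one] at h1
    refine not_eq 3 (NeZero.ne 3) m n hm (by omega) a b (RootDisk.val g) (RootDisk.val s) hg (Or.inr (by omega)) ?_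
    linear_combination -h1
  · rw [show x ^ m * g * (x ^ m * g) = x ^ (2 * m - n + n) * (g * g) by
      rw [show 2 * m - n + n = m + m by omega]; ring, pow_add]
    exact Ideal.mul_mem_right _ _ (Ideal.mul_mem_left _ _ (Ideal.mem_span_singleton_self _))

open W4c1hurwitzcpt in
theorem not_closed (m n : ℕ) (hm : Odd m) (hmn : 2 * m < n) (x g : RootDisk 2 k)
    (hx : RootDisk.val x = PowerSeries.X) (hg : PowerSeries.order (RootDisk.val g) = 0)
    (M : Submodule (PowerSeries k) (RootDisk 2 k × PowerSeries k))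
    (hM : M = Submodule.span (PowerSeries k) {(1 : RootDisk 2 k × PowerSeries k), (x ^ m * g, 0)} ⊔
      ((Ideal.span {x ^ n} : Ideal (RootDisk 2 k)).restrictScalars (PowerSeries k)).prod ⊥) :
    ∃ a ∈ M, ∃ b ∈ M, a * b ∉ M := by
  subst hM
  have hy : ((x ^ m * g, 0) : RootDisk 2 k × PowerSeries k) ∈
      Submodule.span (PowerSeries k) {(1 : RootDisk 2 k × PowerSeries k), (x ^ m * g, 0)} ⊔
      ((Ideal.span {x ^ n} : Ideal (RootDisk 2 k)).restrictScalars (PowerSeries k)).prod ⊥ :=
    Submodule.mem_sup_left (Submodule.subset_span (by simp))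
  refine ⟨_, hy, _, hy, fun h => ?_⟩
  obtain ⟨u, hu, ⟨e, e₂⟩, ⟨he, he₂⟩, hue⟩ := Submodule.mem_sup.mp h
  obtain ⟨a, b, rfl⟩ := Submodule.mem_span_pair.mp hu
  obtain ⟨s, rfl⟩ := Ideal.mem_span_singleton'.mp (he : e ∈ Ideal.span {x ^ n})
  have he₂' : e₂ = 0 := he₂
  obtain ⟨h1, h2⟩ := Prod.mk.injEq _ _ _ _ ▸ (hue : (_, _) = (_, _))
  have h1' := congrArg RootDisk.val h1
  simp only [he₂', add_zero, Prod.algebraMap_apply, Algebra.algebraMap_self, RingHom.id_apply, Prod.fst_mul, Prod.snd_mul, Prod.smul_fst, Prod.smul_snd, Prod.fst_one, Prod.snd_one, Prod.snd_add, Prod.fst_add,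
    smul_eq_mul, mul_one, mul_zero, map_add, map_mul, map_pow, hx, Algebra.smul_def, algebraMap_val, map_one] at h1' h2
  have ha : a = 0 := by simpa using h2
  refine not_eq 2 (NeZero.ne 2) m n (by obtain ⟨q, rfl⟩ := hm; omega) hmn a b (RootDisk.val g) (RootDisk.val s) hg
    (Or.inl ha) ?_
  linear_combination -h1'

end Groth.Agent.CrimpLib
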